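import Groth.Agent.Lib.NormFib.Birational
import Groth.Agent.Lib.DeltaBC4.GeomReg
import Groth.Agent.Lib.DiagGrp.ActionTrivial
import Groth.Agent.Lib.SchDense.Basic
import Groth.Prelude.Def_Curv2

/-!
# Actions lifted to the normalization
-/

set_option autoImplicit false
set_option maxHeartbeats 400000
set_option linter.style.haveILetI false
set_option backward.isDefEq.respectTransparency false

universe u

open CategoryTheory MonoidalCategory CartesianMonoidalCategory MonObj AlgebraicGeometry TopologicalSpace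
open CategoryTheory.Limits

noncomputable section

namespace GrothLib.NormAct29

section Cat

variable {S : Scheme.{u}} {G X W : Over S} [GrpObj G] (a : AlgGrp.Action G X) (b : AlgGrp.Action G W) (ν : W ⟶ X)

/-- An equivariant map gives a cartesian square of actions. -/
theorem isPullback_act (hb : (G ◁ ν) ≫ a.act = b.act ≫ ν) : IsPullback b.act (G ◁ ν) ν a.act := by
  refine IsPullback.of_isLimit' ⟨hb.symm⟩ (PullbackCone.IsLimit.mk _
    (fun s => lift (s.snd ≫ fst G X) (lift (s.snd ≫ fst G X)⁻¹ s.fst ≫ b.act)) (fun s => ?_) (fun s => ?_)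
    fun s m h1 h2 => ?_)
  · rw [← DiagGrp.act_mul, mul_inv_cancel, DiagGrp.act_one]
  · rw [lift_whiskerLeft, Category.assoc, ← hb, lift_whiskerLeft_assoc, s.condition]
    have hv : s.snd = lift (s.snd ≫ fst G X) (s.snd ≫ snd G X) := by
      apply CartesianMonoidalCategory.hom_ext <;> simp
    conv_rhs => rw [hv]
    congr 1
    conv_lhs => rw [hv]
    simp only [lift_fst]
    rw [← DiagGrp.act_mul, inv_mul_cancel, DiagGrp.act_one]
  · have hm : m = lift (s.snd ≫ fst G X) (m ≫ snd G W) := by
      apply CartesianMonoidalCategory.hom_ext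
      · rw [lift_fst, ← h2]
        simp
      · simp
    have h3 : s.fst = lift (s.snd ≫ fst G X) (m ≫ snd G W) ≫ b.act := by rw [← hm]; exact h1.symm
    rw [hm, h3, ← DiagGrp.act_mul, inv_mul_cancel, DiagGrp.act_one]

end Cat

/-- Transfer of density along a map which is bijective over an open subset. -/
theorem denseRange_of_comparison {S' S P' P Z : Type*} [TopologicalSpace P'] [TopologicalSpace P]
    [TopologicalSpace Z] {gA : S' → P'} {gB : S → P} {q : S' → S} {π : P' → P} {j : Z → P'}
    (hsq : ∀ s, π (gA s) = gB (q s)) (hq : Function.Surjective q) (hjc : Continuous j) (hj : DenseRange j)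
    (hπj : IsOpenMap (π ∘ j)) (hinj : Function.Injective (π ∘ j))
    (hsat : ∀ p, π p ∈ Set.range (π ∘ j) → p ∈ Set.range j) (h : DenseRange gB) : DenseRange gA := by
  have hd : Dense ((π ∘ j) ⁻¹' Set.range gB) := h.preimage hπj
  have h1 : Dense (j '' ((π ∘ j) ⁻¹' Set.range gB)) := hj.dense_image hjc hd
  refine h1.mono ?_
  rintro _ ⟨z, ⟨s, hs⟩, rfl⟩
  obtain ⟨s', rfl⟩ := hq s
  obtain ⟨z', hz'⟩ := hsat (gA s') ⟨z, hs.symm.trans (hsq s').symm⟩
  refine ⟨s', hz'.symm.trans (congrArg j (hinj ?_))⟩
  exact (congrArg π hz').trans ((hsq s').trans hs)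

variable {k : Type u} [Field k]

section Norm

variable (X : Over (Spec (CommRingCat.of k))) [IsIntegral X.left] [LocallyOfFiniteType X.hom]
  [QuasiCompact (X.left.fromSpecStalk (genericPoint ↥X.left))]
  [QuasiSeparated (X.left.fromSpecStalk (genericPoint ↥X.left))]

theorem isFinite_ν : IsFinite (Curv2.normalizationι X.left) := by
  letI : X.left.Over (Spec (CommRingCat.of k)) := ⟨X.hom⟩
  haveI : LocallyOfFiniteType (X.left ↘ Spec (CommRingCat.of k)) := ‹LocallyOfFiniteType X.hom›
  exact DeltaBC4.isFinite_normalizationι k X.left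

theorem exists_isIso_open :
    ∃ V : X.left.Opens, (V : Set X.left).Nonempty ∧ IsIso (Curv2.normalizationι X.left ∣_ V) :=
  NormFib.exists_isIso_of_finite (isFinite_ν X)

theorem isDominant_ν : IsDominant (Curv2.normalizationι X.left) := by
  haveI := isFinite_ν X
  obtain ⟨V, hV, hiso⟩ := exists_isIso_open X
  refine ⟨?_⟩
  refine Dense.mono ?_ (V.2.dense hV)
  intro x hx
  obtain ⟨z, hz⟩ := (asIso (Curv2.normalizationι X.left ∣_ V)).schemeIsoToHomeo.surjective ⟨x, hx⟩
  refine ⟨(Curv2.normalizationι X.left ⁻¹ᵁ V).ι z, ?_⟩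
  rw [← Scheme.Hom.comp_apply, ← morphismRestrict_ι, Scheme.Hom.comp_apply]
  exact congrArg (fun w => V.ι w) hz

theorem surjective_ν : Surjective (Curv2.normalizationι X.left) := by
  haveI := isFinite_ν X
  haveI := isDominant_ν X
  refine ⟨fun x => ?_⟩
  have h := (Curv2.normalizationι X.left).denseRange.closure_range
  rw [(Curv2.normalizationι X.left).isClosedMap.isClosed_range.closure_eq] at h
  exact h.ge trivial

end Norm

end GrothLib.NormAct29
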