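import Groth.Agent.Lib.NormAct29.Basic
import Mathlib.AlgebraicGeometry.Morphisms.Flat
import Mathlib.AlgebraicGeometry.Morphisms.UniversallyOpen

/-!
# Almost homogeneity and kernels under normalization
-/

set_option autoImplicit false
set_option maxHeartbeats 800000
set_option linter.style.haveILetI false
set_option backward.isDefEq.respectTransparency false

universe u

open CategoryTheory MonoidalCategory CartesianMonoidalCategory MonObj AlgebraicGeometry TopologicalSpace
open CategoryTheory.Limits

noncomputable section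

namespace GrothLib.NormAct29

variable {k : Type u} [Field k]

local notation "Sk" => Spec (CommRingCat.of k)

theorem isPullback_whiskerLeft {W X : Over Sk} (ν : W ⟶ X) (T : Over Sk) :
    IsPullback (T ◁ ν).left (pullback.snd T.hom W.hom) (pullback.snd T.hom X.hom) ν.left := by
  refine IsPullback.of_right ?_ (Over.whiskerLeft_left_snd ν) (IsPullback.of_hasPullback T.hom X.hom)
  rw [Over.whiskerLeft_left_fst, Over.w ν]
  exact IsPullback.of_hasPullback T.hom W.hom

theorem isDominant_graph_iff {G X W : Over Sk} [GrpObj G] (a : AlgGrp.Action G X) (b : AlgGrp.Action G W)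
    (ν : W ⟶ X) (hb : (G ◁ ν) ≫ a.act = b.act ≫ ν) [Surjective ν.left] [IrreducibleSpace W.left]
    [LocallyOfFiniteType W.hom] (V : X.left.Opens) (hV : (V : Set X.left).Nonempty) [IsIso (ν.left ∣_ V)] :
    IsDominant (lift (snd G X) a.act).left ↔ IsDominant (lift (snd G W) b.act).left := by
  have hsq : (G ◁ ν) ≫ lift (snd G X) a.act = lift (snd G W) b.act ≫ (ν ⊗ₘ ν) := by
    apply CartesianMonoidalCategory.hom_ext
    · simp
    · simp [hb]
  haveI h1 : Surjective (G ◁ ν).left :=
    MorphismProperty.of_isPullback (isPullback_whiskerLeft ν G).flip ‹Surjective ν.left›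
  haveI h2 : Surjective (ν ⊗ₘ ν).left := by
    rw [show (ν ⊗ₘ ν) = (W ◁ ν) ≫ (β_ W X).hom ≫ (X ◁ ν) ≫ (β_ X X).hom by
      apply CartesianMonoidalCategory.hom_ext <;> simp, Over.comp_left, Over.comp_left, Over.comp_left]
    haveI : Surjective (W ◁ ν).left := MorphismProperty.of_isPullback (isPullback_whiskerLeft ν W).flip ‹_›
    haveI : Surjective (X ◁ ν).left := MorphismProperty.of_isPullback (isPullback_whiskerLeft ν X).flip ‹_›
    haveI : IsIso (β_ W X).hom.left := inferInstanceAs (IsIso ((Over.forget _).map (β_ W X).hom))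
    haveI : IsIso (β_ X X).hom.left := inferInstanceAs (IsIso ((Over.forget _).map (β_ X X).hom))
    infer_instance
  have hsq' : ∀ s, (ν ⊗ₘ ν).left ((lift (snd G W) b.act).left s) =
      (lift (snd G X) a.act).left ((G ◁ ν).left s) := fun s => by
    rw [← Scheme.Hom.comp_apply, ← Scheme.Hom.comp_apply, ← Over.comp_left, ← Over.comp_left, hsq]
  refine ⟨fun h => ⟨?_⟩, fun h => ⟨?_⟩⟩
  · let e : ((ν.left ⁻¹ᵁ V : W.left.Opens) : Scheme.{u}) ⟶ W.left := (ν.left ⁻¹ᵁ V).ι
    let f : ((ν.left ⁻¹ᵁ V : W.left.Opens) : Scheme.{u}) ⟶ Sk := e ≫ W.hom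
    let j : pullback f f ⟶ pullback W.hom W.hom :=
      pullback.map f f W.hom W.hom e e (𝟙 _) (Category.comp_id _) (Category.comp_id _)
    have he : e ≫ ν.left = (ν.left ∣_ V) ≫ V.ι := (morphismRestrict_ι _ _).symm
    haveI : IsOpenImmersion (e ≫ ν.left) := by rw [he]; infer_instance
    let jX : pullback f f ⟶ pullback X.hom X.hom :=
      pullback.map f f X.hom X.hom (e ≫ ν.left) (e ≫ ν.left) (𝟙 _)
        (by simp only [f, Category.comp_id, Category.assoc]; rw [Over.w ν])
        (by simp only [f, Category.comp_id, Category.assoc]; rw [Over.w ν])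
    have hj : j ≫ (ν ⊗ₘ ν).left = jX := by
      apply pullback.hom_ext
      · simp [j, jX, Over.tensorHom_left]
      · simp [j, jX, Over.tensorHom_left]
    haveI : IsOpenImmersion jX := inferInstance
    have hpj : ∀ z, (ν ⊗ₘ ν).left (j z) = jX z := fun z => (Scheme.Hom.comp_apply j _ z).symm.trans (congrArg (fun t : pullback f f ⟶ pullback X.hom X.hom => t z) hj)
    haveI : UniversallyOpen W.hom := inferInstance
    have hne : ((ν.left ⁻¹ᵁ V : W.left.Opens) : Set W.left).Nonempty := by
      obtain ⟨v, hv⟩ := hV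
      obtain ⟨w, rfl⟩ := ν.left.surjective v
      exact ⟨w, hv⟩
    have hdV : Dense ((ν.left ⁻¹ᵁ V : W.left.Opens) : Set W.left) := (ν.left ⁻¹ᵁ V).2.dense hne
    refine denseRange_of_comparison (gA := (lift (snd G W) b.act).left) (gB := (lift (snd G X) a.act).left)
      (q := (G ◁ ν).left) (π := (ν ⊗ₘ ν).left) (j := j) hsq' (G ◁ ν).left.surjective j.continuous ?_ ?_ ?_ ?_
      h.denseRange
    · have hr : Set.range j = pullback.fst W.hom W.hom ⁻¹' (ν.left ⁻¹ᵁ V : W.left.Opens) ∩
          pullback.snd W.hom W.hom ⁻¹' (ν.left ⁻¹ᵁ V : W.left.Opens) := by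
        rw [Scheme.Pullback.range_map, Scheme.Opens.range_ι]
      show Dense (Set.range j)
      rw [hr]
      exact (hdV.preimage (pullback.fst W.hom W.hom).isOpenMap).inter_of_isOpen_left
        (hdV.preimage (pullback.snd W.hom W.hom).isOpenMap)
        ((ν.left ⁻¹ᵁ V).2.preimage (pullback.fst W.hom W.hom).continuous)
    · rw [show ((ν ⊗ₘ ν).left : _ → _) ∘ j = jX from funext hpj]
      exact jX.isOpenEmbedding.isOpenMap
    · rw [show ((ν ⊗ₘ ν).left : _ → _) ∘ j = jX from funext hpj]
      exact jX.isOpenEmbedding.injective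
    · rintro p ⟨z, hz⟩
      have hz' : jX z = (ν ⊗ₘ ν).left p := (hpj z).symm.trans hz
      have hm : (ν ⊗ₘ ν).left p ∈ Set.range jX := ⟨z, hz'⟩
      rw [Scheme.Pullback.range_map] at hm
      rw [Scheme.Pullback.range_map, Scheme.Opens.range_ι]
      refine ⟨?_, ?_⟩
      · obtain ⟨w, hw⟩ := hm.1
        show ν.left (pullback.fst W.hom W.hom p) ∈ V
        have hn : (ν ⊗ₘ ν).left ≫ pullback.fst X.hom X.hom = pullback.fst W.hom W.hom ≫ ν.left := by
          simp [Over.tensorHom_left]
        have h3 : (e ≫ ν.left) w = ν.left (pullback.fst W.hom W.hom p) :=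
          hw.trans (((Scheme.Hom.comp_apply _ _ p).symm.trans (congrArg (fun t : (W ⊗ W).left ⟶ X.left => t p) hn)).trans
            (Scheme.Hom.comp_apply (pullback.fst W.hom W.hom) ν.left p))
        rw [← h3]
        exact w.2
      · obtain ⟨w, hw⟩ := hm.2
        show ν.left (pullback.snd W.hom W.hom p) ∈ V
        have hn : (ν ⊗ₘ ν).left ≫ pullback.snd X.hom X.hom = pullback.snd W.hom W.hom ≫ ν.left := by
          simp [Over.tensorHom_left]
        have h3 : (e ≫ ν.left) w = ν.left (pullback.snd W.hom W.hom p) :=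
          hw.trans (((Scheme.Hom.comp_apply _ _ p).symm.trans (congrArg (fun t : (W ⊗ W).left ⟶ X.left => t p) hn)).trans
            (Scheme.Hom.comp_apply (pullback.snd W.hom W.hom) ν.left p))
        rw [← h3]
        exact w.2
  · refine (((ν ⊗ₘ ν).left.surjective.denseRange).comp h.denseRange (ν ⊗ₘ ν).left.continuous).mono ?_
    rintro _ ⟨s, rfl⟩
    exact ⟨(G ◁ ν).left s, (hsq' s).symm⟩

theorem kernel_iff {G X W : Over Sk} [GrpObj G] (a : AlgGrp.Action G X) (b : AlgGrp.Action G W)
    (ν : W ⟶ X) (hb : (G ◁ ν) ≫ a.act = b.act ≫ ν) [IsSeparated X.hom] [IsReduced X.left] [IsReduced W.left]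
    [IrreducibleSpace W.left] [LocallyOfFiniteType W.hom] [IsSeparated W.hom] [Surjective ν.left] [QuasiCompact ν.left]
    (V : X.left.Opens) (hV : (V : Set X.left).Nonempty) [IsIso (ν.left ∣_ V)]
    (T : Over Sk) (g : T ⟶ G) :
    (∀ (T' : Over Sk) (s : T' ⟶ T) (x : T' ⟶ X), lift (s ≫ g) x ≫ a.act = x) ↔
      ∀ (T' : Over Sk) (s : T' ⟶ T) (y : T' ⟶ W), lift (s ≫ g) y ≫ b.act = y := by
  constructor
  · intro h
    suffices hu : lift (fst T W ≫ g) (snd T W) ≫ b.act = snd T W by
      intro T' s y
      have := congrArg (lift s y ≫ ·) hu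
      simpa [comp_lift_assoc] using this
    have hν : (lift (fst T W ≫ g) (snd T W) ≫ b.act) ≫ ν = snd T W ≫ ν := by
      rw [Category.assoc, ← hb, lift_whiskerLeft_assoc]
      exact h _ _ _
    let e : ((ν.left ⁻¹ᵁ V : W.left.Opens) : Scheme.{u}) ⟶ W.left := (ν.left ⁻¹ᵁ V).ι
    haveI : IsDominant e := ⟨by
      show Dense (Set.range e)
      rw [Scheme.Opens.range_ι]
      refine (ν.left ⁻¹ᵁ V).2.dense ?_
      obtain ⟨v, hv⟩ := hV
      obtain ⟨w, rfl⟩ := ν.left.surjective v
      exact ⟨w, hv⟩⟩
    haveI : IsSchemeTheoreticallyDominant e := .of_isDominant e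
    haveI : IsLocallyNoetherian W.left := LocallyOfFiniteType.isLocallyNoetherian W.hom
    haveI : QuasiCompact e := inferInstance
    haveI : Flat T.hom := inferInstance
    haveI : Flat (pullback.snd T.hom W.hom) := inferInstance
    let jj := pullback.fst (pullback.snd T.hom W.hom) e
    haveI : IsSchemeTheoreticallyDominant jj := inferInstance
    let φ := (lift (fst T W ≫ g) (snd T W) ≫ b.act).left
    have hφν : φ ≫ ν.left = pullback.snd T.hom W.hom ≫ ν.left :=
      congrArg CommaMorphism.left hν
    refine Over.OverMorphism.ext (GrothLib.SchDense.ext_of_schDominant W.hom ?_ jj ?_)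
    · exact (Over.w _).trans (Over.w (snd T W)).symm
    · show jj ≫ φ = jj ≫ pullback.snd T.hom W.hom
      have hr : Set.range (jj ≫ φ) ⊆ Set.range e := by
        rintro _ ⟨p, rfl⟩
        rw [Scheme.Opens.range_ι]
        show ν.left ((jj ≫ φ) p) ∈ V
        rw [← Scheme.Hom.comp_apply, Category.assoc, hφν, ← Category.assoc, pullback.condition, Category.assoc,
          Scheme.Hom.comp_apply]
        exact (pullback.snd (pullback.snd T.hom W.hom) e p).2
      rw [← IsOpenImmersion.lift_fac e (jj ≫ φ) hr, pullback.condition]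
      haveI : Mono (e ≫ ν.left) := by
        rw [show e ≫ ν.left = (ν.left ∣_ V) ≫ V.ι from (morphismRestrict_ι _ _).symm]
        infer_instance
      congr 1
      rw [← cancel_mono (e ≫ ν.left), IsOpenImmersion.lift_fac_assoc, Category.assoc, hφν,
        ← Category.assoc, pullback.condition, Category.assoc]
  · intro h
    suffices hu : lift (fst T X ≫ g) (snd T X) ≫ a.act = snd T X by
      intro T' s x
      have := congrArg (lift s x ≫ ·) hu
      simpa [comp_lift_assoc] using this
    haveI : IsSchemeTheoreticallyDominant ν.left := .of_isDominant ν.left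
    haveI : Flat T.hom := inferInstance
    haveI : Flat (pullback.snd T.hom X.hom) := inferInstance
    haveI : IsSchemeTheoreticallyDominant (T ◁ ν).left :=
      IsSchemeTheoreticallyDominant.of_isPullback (isPullback_whiskerLeft ν T).flip
    refine Over.OverMorphism.ext (GrothLib.SchDense.ext_of_schDominant X.hom ?_ (T ◁ ν).left ?_)
    · exact (Over.w _).trans (Over.w (snd T X)).symm
    · rw [← Over.comp_left, ← Over.comp_left]
      congr 1
      have h0 := h (T ⊗ W) (fst T W) (snd T W)
      have hl : (T ◁ ν) ≫ lift (fst T X ≫ g) (snd T X) = lift (fst T W ≫ g) (snd T W) ≫ (G ◁ ν) := by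
        apply CartesianMonoidalCategory.hom_ext <;> simp
      rw [← Category.assoc, hl, Category.assoc, hb, ← Category.assoc, h0, whiskerLeft_snd]

end GrothLib.NormAct29
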